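import Cfsg.Agent.PermAut.Sift
import Cfsg.Agent.AutCert.NormalForm
import Cfsg.Prelude.Def_KGroupFacts

set_option autoImplicit false

/-!
# Automorphisms of a group with a faithful table of permutations
-/

namespace Cfsg.Agent.PermAut

open Cfsg.Agent.CosetCert Cfsg.Agent.CosetEnum Cfsg.Agent.AutCert

/-- A group with letters and a faithful action by tables. -/
structure Mdl (G : Type*) [Group G] where
  /-- number of points -/
  N : ℕ
  /-- tables -/
  T : ℕ → ℕ → ℕ
  /-- letters -/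
  γ : ℕ → G
  /-- usable letters -/
  letters : List ℕ
  /-- the action -/
  φ : G →* Equiv.Perm (Fin N)
  inj : Function.Injective φ
  hσ : ∀ l ∈ letters, ∀ i : Fin N, (φ (γ l) i : ℕ) = T l i

/-- The value of a word. -/
def Mdl.ev {G : Type*} [Group G] (M : Mdl G) (u : List ℕ) : G := pval M.γ u

/-- Iterate a word. -/
noncomputable def itr (T : ℕ → ℕ → ℕ) (x : List ℕ) (e q : ℕ) : ℕ :=
  Nat.rec (motive := fun _ => ℕ) q (fun _ v => runWord T x v) e

variable {G : Type*} [Group G] (M : Mdl G)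

theorem Mdl.ev_nil : M.ev [] = 1 := rfl

theorem Mdl.ev_append (u v : List ℕ) : M.ev (u ++ v) = M.ev v * M.ev u := pval_append M.γ u v

theorem Mdl.map_ev : ∀ u : List ℕ, M.φ (M.ev u) = pval (fun l => M.φ (M.γ l)) u
  | [] => map_one M.φ
  | l :: ls => by
    show M.φ (M.ev ls * M.γ l) = _
    rw [map_mul, Mdl.map_ev ls]
    rfl

theorem Mdl.run_ev (u : List ℕ) (hu : ∀ l ∈ u, l ∈ M.letters) (i : Fin M.N) :
    (M.φ (M.ev u) i : ℕ) = runWord M.T u i := by
  rw [M.map_ev]
  exact runWord_pval M.T M.letters _ M.hσ u hu i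

theorem Mdl.eq_of_run {u v : List ℕ} (hu : ∀ l ∈ u, l ∈ M.letters) (hv : ∀ l ∈ v, l ∈ M.letters)
    (h : ∀ i < M.N, runWord M.T u i = runWord M.T v i) : M.ev u = M.ev v :=
  M.inj <| Equiv.ext fun i => Fin.ext <| by rw [M.run_ev u hu, M.run_ev v hv, h i i.2]

theorem Mdl.ne_of_run {u v : List ℕ} (hu : ∀ l ∈ u, l ∈ M.letters) (hv : ∀ l ∈ v, l ∈ M.letters)
    {i : ℕ} (hi : i < M.N) (h : runWord M.T u i ≠ runWord M.T v i) : M.ev u ≠ M.ev v := by
  intro e
  apply h
  rw [← M.run_ev u hu ⟨i, hi⟩, ← M.run_ev v hv ⟨i, hi⟩, e]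

theorem Mdl.ev_pow (u : List ℕ) : ∀ n : ℕ, M.ev u ^ n = M.ev (List.replicate n u).flatten
  | 0 => by simp [M.ev_nil]
  | n + 1 => by
    rw [pow_succ, Mdl.ev_pow u n, List.replicate_succ, List.flatten_cons, M.ev_append]

/-- The word in the three letters `8, 9, 10` of a word in three generators. -/
def code3 (w : List ℕ) (a b c : List ℕ) : List ℕ :=
  (w.reverse.map fun i => if i = 0 then a else if i = 1 then b else c).flatten

theorem Mdl.word3_ev (a b c : List ℕ) :
    ∀ w : List ℕ, word3 (M.ev a) (M.ev b) (M.ev c) w = M.ev (code3 w a b c) := by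
  intro w
  induction w with
  | nil => rfl
  | cons x w ih =>
    have hx : code3 (x :: w) a b c =
        code3 w a b c ++ (if x = 0 then a else if x = 1 then b else c) := by
      simp [code3]
    rw [hx, M.ev_append]
    rcases x with _ | _ | x
    · rw [word3, ih]; rfl
    · rw [word3, ih]; rfl
    · rw [word3, ih]; simp

/-- The check of one point for the elements commuting with the word `x`. -/
noncomputable def commOK (T : ℕ → ℕ → ℕ) (Ps : List SLevel) (x : List ℕ) (ex : List ℕ)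
    (els : List (List ℕ)) (q : ℕ) : Bool :=
  !(siftOK T Ps (ex.map fun e => itr T x e q)) ||
    els.any fun u => (List.zip Ps ex).all fun P =>
      Nat.beq (runWord T u P.1.1.base) (itr T x P.2 q)

/-- A chain of full length in a model. -/
structure Mdl.Chain (M : Mdl G) where
  /-- letters of the generators -/
  L0 : List ℕ
  /-- levels -/
  Ps : List SLevel
  sub : ∀ l ∈ L0, l ∈ M.letters
  valid : ChainValid M.N M.T L0 [] (Ps.map Prod.fst)
  inv : ∀ P ∈ Ps, InvOK M.N M.T L0 P
  card : Nat.card G ≤ chainProd (Ps.map Prod.fst)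

theorem Mdl.Chain.key [Finite G] {M : Mdl G} (C : M.Chain) (h : G) :
    siftOK M.T C.Ps (C.Ps.map fun P => app (M.φ h) P.1.base) = true ∧
      ((∀ P ∈ C.Ps, app (M.φ h) P.1.base = P.1.base) → h = 1) := by
  classical
  have hσ : ∀ l ∈ C.L0, ∀ i : Fin M.N, (M.φ (M.γ l) i : ℕ) = M.T l i := fun l hl =>
    M.hσ l (C.sub l hl)
  have hR : ∀ l ∈ C.L0, M.φ (M.γ l) ∈ M.φ.range := fun l _ => ⟨M.γ l, rfl⟩
  have hc : Nat.card (Stab M.φ.range []) ≤ chainProd (C.Ps.map Prod.fst) := by
    refine le_trans ?_ C.card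
    refine le_trans (Nat.card_le_card_of_injective
      (fun t : Stab M.φ.range [] => (⟨t.1, t.2.1⟩ : M.φ.range))
      fun a b h => Subtype.ext (congrArg (fun z : M.φ.range => (z : Equiv.Perm (Fin M.N))) h)) ?_
    exact Nat.card_le_card_of_surjective M.φ.rangeRestrict M.φ.rangeRestrict_surjective
  obtain ⟨h1, h2⟩ := sift_spec hσ hR C.Ps [] C.valid C.inv hc ⟨M.φ h, ⟨h, rfl⟩, by simp⟩
  exact ⟨h1, fun hh => M.inj ((h2 hh).trans (map_one M.φ).symm)⟩

/-- Words agreeing on the base points are equal in the group. -/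
theorem Mdl.Chain.eq_of_base [Finite G] {M : Mdl G} (C : M.Chain) {u v : List ℕ}
    (hu : ∀ l ∈ u, l ∈ M.letters) (hv : ∀ l ∈ v, l ∈ M.letters)
    (hlt : ∀ P ∈ C.Ps, P.1.base < M.N)
    (h : ∀ P ∈ C.Ps, runWord M.T u P.1.base = runWord M.T v P.1.base) : M.ev u = M.ev v := by
  have h1 : (M.ev v)⁻¹ * M.ev u = 1 := by
    refine (C.key _).2 fun P hP => ?_
    have hb := hlt P hP
    rw [map_mul, app_mul _ _ hb]
    have e1 : app (M.φ (M.ev u)) P.1.base = (M.φ (M.ev v) ⟨P.1.base, hb⟩ : ℕ) := by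
      rw [app, dif_pos hb, M.run_ev u hu, M.run_ev v hv]
      exact h P hP
    rw [e1, app_coe, map_inv, ← Equiv.Perm.mul_apply, inv_mul_cancel, Equiv.Perm.one_apply]
  exact (inv_mul_eq_one.1 h1).symm

/-- **Centralisers by sifting.** -/
theorem Mdl.Chain.eq_of_comm [Finite G] {M : Mdl G} (C : M.Chain)
    (x : List ℕ) (hx : ∀ l ∈ x, l ∈ M.letters) (ex : List ℕ) (b0 : ℕ) (hb0 : b0 < M.N)
    (hex : C.Ps.map (fun P => P.1.base) = ex.map fun e => itr M.T x e b0)
    (els : List (List ℕ)) (hels : ∀ u ∈ els, ∀ l ∈ u, l ∈ M.letters)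
    (hchk : ∀ q < M.N, commOK M.T C.Ps x ex els q = true)
    (g : G) (hg : g * M.ev x = M.ev x * g) : ∃ u ∈ els, g = M.ev u := by
  classical
  set Ps := C.Ps with hPs
  have key : ∀ h : G, siftOK M.T Ps (Ps.map fun P => app (M.φ h) P.1.base) = true ∧
      ((∀ P ∈ Ps, app (M.φ h) P.1.base = P.1.base) → h = 1) := C.key
  -- the images of the base points
  have hit : ∀ e : ℕ, ∀ i : Fin M.N, (M.φ (M.ev x ^ e) i : ℕ) = itr M.T x e i := by
    intro e
    induction e with
    | zero => intro i; simp [itr]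
    | succ e ih =>
      intro i
      rw [pow_succ', map_mul, Equiv.Perm.mul_apply, M.run_ev x hx, ih]
      rfl
  set q := (M.φ g ⟨b0, hb0⟩ : ℕ) with hq
  have himg : ∀ e : ℕ, app (M.φ g) (itr M.T x e b0) = itr M.T x e q := by
    intro e
    have hc' : g * M.ev x ^ e = M.ev x ^ e * g := ((show Commute g (M.ev x) from hg).pow_right e).eq
    have := congrArg (fun h => (M.φ h ⟨b0, hb0⟩ : ℕ)) hc'
    simp only [map_mul, Equiv.Perm.mul_apply] at this
    rw [hit e (M.φ g ⟨b0, hb0⟩)] at this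
    have h0 : itr M.T x e b0 = (M.φ (M.ev x ^ e) ⟨b0, hb0⟩ : ℕ) := (hit e ⟨b0, hb0⟩).symm
    rw [h0, app_coe, this]
  have hmap : (Ps.map fun P => app (M.φ g) P.1.base) = ex.map fun e => itr M.T x e q := by
    have := congrArg (List.map (app (M.φ g))) hex
    rw [List.map_map, List.map_map] at this
    exact this.trans (List.map_congr_left fun e _ => himg e)
  have hq' := hchk q (M.φ g ⟨b0, hb0⟩).2
  have hsift : siftOK M.T Ps (ex.map fun e => itr M.T x e q) = true := by
    rw [← hmap]; exact (key g).1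
  rw [commOK, hsift, Bool.not_true, Bool.false_or, List.any_eq_true] at hq'
  obtain ⟨u, hu, hu'⟩ := hq'
  refine ⟨u, hu, ?_⟩
  have hone : (M.ev u)⁻¹ * g = 1 := by
    refine (key _).2 fun P hP => ?_
    obtain ⟨n, hn, rfl⟩ := List.mem_iff_getElem.1 hP
    have hlen : Ps.length = ex.length := by
      have := congrArg List.length hex
      simpa using this
    have hn' : n < ex.length := hlen ▸ hn
    have hb : (Ps[n]).1.base = itr M.T x ex[n] b0 := by
      have := congrArg (fun L : List ℕ => L[n]?) hex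
      simpa [List.getElem?_eq_getElem hn, List.getElem?_eq_getElem hn'] using this
    have hlt : (Ps[n]).1.base < M.N := by
      rw [hb, ← hit ex[n] ⟨b0, hb0⟩]
      exact Fin.is_lt _
    have hz : (Ps[n], ex[n]) ∈ List.zip Ps ex := by
      refine List.mem_iff_getElem.2 ⟨n, by simp [List.length_zip, hn, hn'], ?_⟩
      simp
    have h1 := Nat.eq_of_beq_eq_true (List.all_eq_true.1 hu' _ hz)
    simp only at h1
    rw [map_mul, app_mul _ _ hlt]
    have h2 : app (M.φ g) (Ps[n]).1.base = itr M.T x ex[n] q := by rw [hb]; exact himg _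
    rw [h2, ← h1]
    have h3 : (M.φ (M.ev u) ⟨_, hlt⟩ : ℕ) = runWord M.T u (Ps[n]).1.base := M.run_ev u (hels u hu) _
    rw [← h3, app_coe, map_inv, ← Equiv.Perm.mul_apply, inv_mul_cancel, Equiv.Perm.one_apply]
  exact (inv_mul_eq_one.1 hone).symm

/-- Tables for further letters. -/
noncomputable def extT (T : ℕ → ℕ → ℕ) (off : ℕ) (tabs : List PTree) (l i : ℕ) : ℕ :=
  cond (Nat.blt l off) (T l i) ((tabs.getD (Nat.sub l off) (PTree.leaf 0)).get 32 i)

/-- Further letters for given words. -/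
noncomputable def Mdl.extend (off : ℕ) (hoff : ∀ l ∈ M.letters, l < off) (ws : List (List ℕ))
    (tabs : List PTree) (hws : ∀ u ∈ ws, ∀ l ∈ u, l ∈ M.letters)
    (hchk : ∀ j < ws.length, ∀ i < M.N,
      runWord M.T (ws.getD j []) i = (tabs.getD j (PTree.leaf 0)).get 32 i) : Mdl G where
  N := M.N
  T := extT M.T off tabs
  γ := fun l => if l < off then M.γ l else M.ev (ws.getD (l - off) [])
  letters := M.letters ++ (List.range ws.length).map (· + off)
  φ := M.φ
  inj := M.inj
  hσ := by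
    intro l hl i
    rcases List.mem_append.1 hl with h | h
    · have h' := hoff l h
      rw [if_pos h', extT]
      have : Nat.blt l off = true := Nat.ble_eq_true_of_le h'
      rw [this, cond_true]
      exact M.hσ l h i
    · obtain ⟨j, hj, rfl⟩ := List.mem_map.1 h
      have hj' := List.mem_range.1 hj
      have h' : ¬ j + off < off := by omega
      rw [if_neg h', extT]
      have : Nat.blt (j + off) off = false := by
        cases hb : Nat.blt (j + off) off
        · rfl
        · exact absurd (Nat.le_of_ble_eq_true hb) h'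
      rw [this, cond_false]
      show _ = (tabs.getD (j + off - off) (PTree.leaf 0)).get 32 i
      rw [Nat.add_sub_cancel, M.run_ev _ (getD_mem_letters hws j) i]
      exact hchk j hj' i i.2

theorem runWord_append (T : ℕ → ℕ → ℕ) : ∀ (u v : List ℕ) (i : ℕ),
    runWord T (u ++ v) i = runWord T v (runWord T u i)
  | [], _, _ => rfl
  | l :: u, v, i => runWord_append T u v (T l i)

/-- With involutory letters a reversed word undoes a word. -/
theorem runWord_reverse {N : ℕ} {T : ℕ → ℕ → ℕ} {L : List ℕ}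
    (h : ∀ l ∈ L, ∀ i < N, T l i < N ∧ T l (T l i) = i) :
    ∀ u : List ℕ, (∀ l ∈ u, l ∈ L) → ∀ i < N, runWord T u.reverse (runWord T u i) = i := by
  intro u
  induction u with
  | nil => intro _ i _; rfl
  | cons l u ih =>
    intro hu i hi
    obtain ⟨h1, h2⟩ := h l (hu l List.mem_cons_self) i hi
    rw [List.reverse_cons, runWord_append]
    show runWord T [l] (runWord T u.reverse (runWord T u (T l i))) = i
    rw [ih (fun m hm => hu m (List.mem_cons_of_mem _ hm)) _ h1]
    exact h2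

/-- A permutation normalising the group gives an automorphism. -/
theorem Mdl.exists_aut [Finite G] (t : Equiv.Perm (Fin M.N)) (gl : List ℕ)
    (htop : Subgroup.closure (M.γ '' {l | l ∈ gl}) = ⊤)
    (hnorm : ∀ l ∈ gl, ∃ g : G, t * M.φ (M.γ l) * t⁻¹ = M.φ g) :
    ∃ ψ : MulAut G, ∀ g : G, M.φ (ψ g) = t * M.φ g * t⁻¹ := by
  have hall : ∀ g : G, ∃ g' : G, t * M.φ g * t⁻¹ = M.φ g' := by
    intro g
    have hle : (⊤ : Subgroup G) ≤ M.φ.range.comap ((MulAut.conj t).toMonoidHom.comp M.φ) := by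
      rw [← htop, Subgroup.closure_le]
      rintro _ ⟨l, hl, rfl⟩
      obtain ⟨g', hg'⟩ := hnorm l hl
      exact ⟨g', hg'.symm⟩
    obtain ⟨g', hg'⟩ := hle (Subgroup.mem_top g)
    exact ⟨g', hg'.symm⟩
  choose f hf using hall
  let F : G →* G := MonoidHom.mk' f fun a b => M.inj (by
    rw [← hf, map_mul, map_mul, ← hf, ← hf]; group)
  have hFi : Function.Injective F := fun a b h => M.inj (by
    have h' : M.φ (f a) = M.φ (f b) := congrArg M.φ h
    rw [← hf, ← hf] at h'
    exact mul_left_cancel (mul_right_cancel h'))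
  exact ⟨MulEquiv.ofBijective F ⟨hFi, Finite.surjective_of_injective hFi⟩, fun g => (hf g).symm⟩

/-- Two classes of automorphisms. -/
theorem card_out_eq_two (σ : MulAut G) (hσ : ∀ a : G, σ ≠ MulAut.conj a)
    (h : ∀ ψ : MulAut G, ∃ a : G, ψ = MulAut.conj a ∨ ψ = σ * MulAut.conj a) :
    Nat.card (Cfsg.Out G) = 2 := by
  have hinn : ∀ ψ : MulAut G, ψ ∈ Cfsg.Inn G ↔ ∃ a, ψ = MulAut.conj a := fun ψ =>
    ⟨fun ⟨a, ha⟩ => ⟨a, ha.symm⟩, fun ⟨a, ha⟩ => ⟨a, ha.symm⟩⟩
  show (Cfsg.Inn G).index = 2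
  rw [Subgroup.index_eq_two_iff]
  refine ⟨σ, fun b => ?_⟩
  have hσn : σ ∉ Cfsg.Inn G := fun h' => by
    obtain ⟨a, ha⟩ := (hinn σ).1 h'
    exact hσ a ha
  by_cases hb : b ∈ Cfsg.Inn G
  · exact Or.inr ⟨hb, fun hbt => hσn (by
      simpa [mul_assoc] using (Cfsg.Inn G).mul_mem ((Cfsg.Inn G).inv_mem hb) hbt)⟩
  · refine Or.inl ⟨?_, hb⟩
    obtain ⟨a, ha | ha⟩ := h b
    · exact absurd ((hinn b).2 ⟨a, ha⟩) hb
    · subst ha
      obtain ⟨c, hc | hc⟩ := h (σ * MulAut.conj a * σ)
      · exact (hinn _).2 ⟨c, hc⟩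
      · exfalso
        apply hσn
        have h1 : MulAut.conj a * σ = MulAut.conj c := by
          rw [mul_assoc] at hc
          exact mul_left_cancel hc
        exact (hinn σ).2 ⟨a⁻¹ * c, by
          rw [map_mul, ← h1, ← mul_assoc, ← map_mul, inv_mul_cancel, map_one, one_mul]⟩

end Cfsg.Agent.PermAut
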