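import Cfsg.Agent.CosetEnum.Chain

set_option autoImplicit false

/-!
# Sifting in a permutation group with a complete chain of orbits

If the product of the orbit sizes of a chain is at least the order of the group, the orbits are
complete and an element is determined by the images of the base points; a sequence of images that
does not pass `siftOK` comes from no element of the group.
-/

namespace Cfsg.Agent.PermAut

open Cfsg.Agent.CosetCert Cfsg.Agent.CosetEnum

/-- A level with words inverse to its generators. -/
abbrev SLevel := Level × List (List ℕ)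

/-- The inverse of the transversal element of rank `r`, at the point `x`. -/
noncomputable def back (T : ℕ → ℕ → ℕ) (P : SLevel) (fuel : ℕ) : ℕ → ℕ → ℕ :=
  Nat.rec (motive := fun _ => ℕ → ℕ → ℕ) (fun _ x => x)
    (fun _ ih r x => cond (Nat.beq r 0) x
      (ih (Nat.div (P.1.par.get 32 r) 256)
        (runWord T (P.2.getD (Nat.mod (P.1.par.get 32 r) 256) []) x))) fuel

/-- Sift a list of images of the base points. -/
noncomputable def siftOK (T : ℕ → ℕ → ℕ) : List SLevel → List ℕ → Bool
  | [], _ => true
  | _ :: _, [] => true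
  | P :: Ps, x :: xs =>
    Nat.blt (P.1.rank.get 32 x) P.1.size && (Nat.beq (P.1.ord.get 32 (P.1.rank.get 32 x)) x &&
      siftOK T Ps (xs.map fun y => back T P P.1.size (P.1.rank.get 32 x) y))

/-- The inverse words are inverse words. -/
def InvOK (N : ℕ) (T : ℕ → ℕ → ℕ) (letters : List ℕ) (P : SLevel) : Prop :=
  (∀ u ∈ P.2, ∀ l ∈ u, l ∈ letters) ∧
    ∀ j < P.1.gens.length, ∀ i < N, runWord T (P.2.getD j []) (runWord T (P.1.gens.getD j []) i) = i

/-- The value of a permutation at a number. -/
def app {N : ℕ} (τ : Equiv.Perm (Fin N)) (b : ℕ) : ℕ := if h : b < N then (τ ⟨b, h⟩ : ℕ) else b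

theorem app_coe {N : ℕ} (τ : Equiv.Perm (Fin N)) (i : Fin N) : app τ (i : ℕ) = (τ i : ℕ) := by
  simp [app]

theorem app_lt {N : ℕ} (τ : Equiv.Perm (Fin N)) {b : ℕ} (h : b < N) : app τ b < N := by
  simp [app, h]

theorem app_mul {N : ℕ} (σ τ : Equiv.Perm (Fin N)) {b : ℕ} (h : b < N) :
    app (σ * τ) b = app σ (app τ b) := by
  simp [app, h, Equiv.Perm.mul_apply]

variable {N : ℕ} {T : ℕ → ℕ → ℕ} {letters : List ℕ} {σ : ℕ → Equiv.Perm (Fin N)}
  {R : Subgroup (Equiv.Perm (Fin N))}

theorem pval_mem (hR : ∀ l ∈ letters, σ l ∈ R) :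
    ∀ u : List ℕ, (∀ l ∈ u, l ∈ letters) → pval σ u ∈ R := by
  intro u
  induction u with
  | nil => intro _; exact R.one_mem
  | cons l ls ih =>
    intro hu
    exact R.mul_mem (ih fun m hm => hu m (List.mem_cons_of_mem _ hm)) (hR l (hu l List.mem_cons_self))

/-- The elements fixing the earlier base points. -/
abbrev Stab (R : Subgroup (Equiv.Perm (Fin N))) (prev : List ℕ) : Type :=
  {τ : Equiv.Perm (Fin N) // τ ∈ R ∧ ∀ i : Fin N, (i : ℕ) ∈ prev → τ i = i}

theorem getD_mem_letters {us : List (List ℕ)} {L : List ℕ} (h : ∀ u ∈ us, ∀ l ∈ u, l ∈ L) (j : ℕ) :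
    ∀ l ∈ us.getD j [], l ∈ L := by
  intro l hl
  by_cases hj : j < us.length
  · rw [List.getD_eq_getElem _ _ hj] at hl
    exact h _ (List.getElem_mem hj) l hl
  · rw [List.getD_eq_default _ _ (not_lt.1 hj)] at hl
    exact absurd hl List.not_mem_nil

/-- The transversal elements and their inverses. -/
theorem exists_transversal (hσ : ∀ l ∈ letters, ∀ i, (σ l i : ℕ) = T l i)
    (hR : ∀ l ∈ letters, σ l ∈ R) (P : SLevel) (prev : List ℕ)
    (hg : ∀ u ∈ P.1.gens, (∀ l ∈ u, l ∈ letters) ∧ ∀ p ∈ prev, runWord T u p = p)
    (hok : ∀ r < P.1.size, P.1.ok N T r = true) (hi : InvOK N T letters P) :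
    ∀ r < P.1.size, ∀ fuel, r ≤ fuel → ∃ τ : Equiv.Perm (Fin N),
      τ ∈ R ∧ (∀ i : Fin N, (i : ℕ) ∈ prev → τ i = i) ∧
      app τ P.1.base = P.1.ord.get 32 r ∧ ∀ i : Fin N, (τ⁻¹ i : ℕ) = back T P fuel r (i : ℕ) := by
  intro r
  induction r using Nat.strong_induction_on with
  | _ r ih =>
    intro hr fuel hfuel
    have h := hok r hr
    simp only [Level.ok, Bool.and_eq_true] at h
    by_cases hr0 : r = 0
    · subst hr0
      refine ⟨1, R.one_mem, fun i _ => rfl, ?_, fun i => ?_⟩
      · have hb : P.1.ord.get 32 0 = P.1.base := by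
          have h22 := h.2.2
          rw [show Nat.beq 0 0 = true from rfl, cond_true] at h22
          exact Nat.eq_of_beq_eq_true h22
        rw [hb]
        unfold app
        split <;> rfl
      · cases fuel <;> rfl
    obtain ⟨fuel, rfl⟩ : ∃ m, fuel = m + 1 := ⟨fuel - 1, by omega⟩
    have hb : Nat.beq r 0 = false := by
      cases h' : Nat.beq r 0
      · rfl
      · exact absurd (Nat.eq_of_beq_eq_true h') hr0
    have h3 := h.2.2
    rw [hb, cond_false] at h3
    simp only [Bool.and_eq_true] at h3
    obtain ⟨hp, hj, hrun⟩ := h3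
    set p := Nat.div (P.1.par.get 32 r) 256 with hpdef
    set j := Nat.mod (P.1.par.get 32 r) 256 with hjdef
    have hp' : p < r := Nat.le_of_ble_eq_true hp
    have hj' : j < P.1.gens.length := Nat.le_of_ble_eq_true hj
    obtain ⟨τ, hτR, hτfix, hτb, hτi⟩ := ih p hp' (hp'.trans hr) fuel (by omega)
    have hu : P.1.gens.getD j [] ∈ P.1.gens := by
      rw [List.getD_eq_getElem _ _ hj']; exact List.getElem_mem hj'
    obtain ⟨hul, hufix⟩ := hg _ hu
    have hrw := runWord_pval T letters σ hσ _ hul
    have hvl := getD_mem_letters hi.1 j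
    have hrv := runWord_pval T letters σ hσ _ hvl
    have hvu : ∀ i : Fin N, pval σ (P.2.getD j []) (pval σ (P.1.gens.getD j []) i) = i := fun i =>
      Fin.ext (by rw [hrv, hrw]; exact hi.2 j hj' i i.2)
    refine ⟨pval σ (P.1.gens.getD j []) * τ, R.mul_mem (pval_mem hR _ hul) hτR, ?_, ?_, ?_⟩
    · intro i hi'
      rw [Equiv.Perm.mul_apply, hτfix i hi']
      exact Fin.ext ((hrw i).trans (hufix _ hi'))
    · have hbl : P.1.base < N := by
        have h0 := hok 0 (by omega)
        simp only [Level.ok, Bool.and_eq_true] at h0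
        have := h0.2.2
        rw [show Nat.beq 0 0 = true from rfl, cond_true] at this
        rw [← Nat.eq_of_beq_eq_true this]
        exact Nat.le_of_ble_eq_true h0.1
      rw [app_mul _ _ hbl, hτb]
      have hlp : P.1.ord.get 32 p < N := by
        have h0 := hok p (hp'.trans hr)
        simp only [Level.ok, Bool.and_eq_true] at h0
        exact Nat.le_of_ble_eq_true h0.1
      rw [app, dif_pos hlp, hrw]
      exact Nat.eq_of_beq_eq_true hrun
    · intro i
      have hinv : (pval σ (P.1.gens.getD j []))⁻¹ i = pval σ (P.2.getD j []) i := by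
        have h1 : pval σ (P.2.getD j []) * pval σ (P.1.gens.getD j []) = 1 := Equiv.ext hvu
        rw [eq_inv_of_mul_eq_one_left h1]
      rw [mul_inv_rev, Equiv.Perm.mul_apply, hinv, hτi, hrv]
      show back T P fuel p _ = _
      conv_rhs =>
        rw [back]
      simp only [hb, cond_false]
      rfl

/-- **Sifting is complete, and the base determines the element.** -/
theorem sift_spec (hσ : ∀ l ∈ letters, ∀ i, (σ l i : ℕ) = T l i) (hR : ∀ l ∈ letters, σ l ∈ R) :
    ∀ (Ps : List SLevel) (prev : List ℕ),
      ChainValid N T letters prev (Ps.map Prod.fst) → (∀ P ∈ Ps, InvOK N T letters P) →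
      Nat.card (Stab R prev) ≤ chainProd (Ps.map Prod.fst) →
      ∀ τ : Stab R prev, siftOK T Ps (Ps.map fun P => app τ.1 P.1.base) = true ∧
        ((∀ P ∈ Ps, app τ.1 P.1.base = P.1.base) → τ.1 = 1) := by
  intro Ps
  induction Ps with
  | nil =>
    intro prev _ _ hcard τ
    refine ⟨rfl, fun _ => ?_⟩
    have : Nonempty (Stab R prev) := ⟨τ⟩
    have hsub : Subsingleton (Stab R prev) := Finite.card_le_one_iff_subsingleton.1 hcard
    exact congrArg Subtype.val (@Subsingleton.elim _ hsub τ ⟨1, R.one_mem, fun i _ => rfl⟩)
  | cons P Ps ih =>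
    intro prev hv hinv hcard τ
    obtain ⟨hg, hok, hrest⟩ := hv
    have hA : 0 < Nat.card (Stab R prev) := by
      have : Nonempty (Stab R prev) := ⟨τ⟩
      exact Nat.card_pos
    have hprod : chainProd ((P :: Ps).map Prod.fst) = P.1.size * chainProd (Ps.map Prod.fst) := rfl
    have hs : 0 < P.1.size := by
      rw [hprod] at hcard
      rcases Nat.eq_zero_or_pos P.1.size with h | h
      · simp [h] at hcard
        omega
      · exact h
    have htr := exists_transversal hσ hR P prev hg hok (hinv P List.mem_cons_self)
    choose u huR hufix hub hui using fun (r : ℕ) (hr : r < P.1.size) => htr r hr P.1.size hr.le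
    have hbase : P.1.base < N := by
      have h0 := hok 0 hs
      simp only [Level.ok, Bool.and_eq_true] at h0
      have := h0.2.2
      rw [show Nat.beq 0 0 = true from rfl, cond_true] at this
      rw [← Nat.eq_of_beq_eq_true this]
      exact Nat.le_of_ble_eq_true h0.1
    let F : Fin P.1.size × Stab R (P.1.base :: prev) → Stab R prev := fun x =>
      ⟨u x.1 x.1.2 * x.2.1, R.mul_mem (huR _ _) x.2.2.1, fun i hi => by
        rw [Equiv.Perm.mul_apply, x.2.2.2 i (List.mem_cons_of_mem _ hi), hufix _ _ i hi]⟩
    have hFbase : ∀ (r : ℕ) (hr : r < P.1.size) (t : Stab R (P.1.base :: prev)),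
        app (u r hr * t.1) P.1.base = P.1.ord.get 32 r := by
      intro r hr t
      rw [app_mul _ _ hbase]
      have : app t.1 P.1.base = P.1.base := by
        rw [app, dif_pos hbase, t.2.2 ⟨P.1.base, hbase⟩ List.mem_cons_self]
      rw [this, hub]
    have hrank : ∀ r < P.1.size, P.1.rank.get 32 (P.1.ord.get 32 r) = r := by
      intro r hr
      have h := hok r hr
      simp only [Level.ok, Bool.and_eq_true] at h
      exact Nat.eq_of_beq_eq_true h.2.1
    have hF : Function.Injective F := by
      rintro ⟨r, t⟩ ⟨r', t'⟩ h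
      have h1 : u r r.2 * t.1 = u r' r'.2 * t'.1 := congrArg Subtype.val h
      have h2 := congrArg (fun π => app π P.1.base) h1
      simp only [hFbase] at h2
      have h3 : (r : ℕ) = r' := by rw [← hrank r r.2, h2, hrank r' r'.2]
      obtain rfl : r = r' := Fin.ext h3
      rw [mul_left_cancel_iff] at h1
      rw [Subtype.ext h1]
    have hlow : chainProd (Ps.map Prod.fst) ≤ Nat.card (Stab R (P.1.base :: prev)) :=
      chainProd_le T letters σ hσ R hR _ _ hrest
    have hF' : P.1.size * Nat.card (Stab R (P.1.base :: prev)) ≤ Nat.card (Stab R prev) := by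
      have := Nat.card_le_card_of_injective F hF
      rwa [Nat.card_prod, Nat.card_fin] at this
    rw [hprod] at hcard
    have hnext : Nat.card (Stab R (P.1.base :: prev)) ≤ chainProd (Ps.map Prod.fst) :=
      Nat.le_of_mul_le_mul_left (hF'.trans hcard) hs
    have hbij : Function.Bijective F := by
      rw [Nat.bijective_iff_injective_and_card]
      refine ⟨hF, le_antisymm (Nat.card_le_card_of_injective F hF) ?_⟩
      rw [Nat.card_prod, Nat.card_fin]
      exact hcard.trans (Nat.mul_le_mul_left _ hlow)
    obtain ⟨⟨r, t⟩, rfl⟩ := hbij.2 τ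
    have hx : app (u r r.2 * t.1) P.1.base = P.1.ord.get 32 r := hFbase r r.2 t
    obtain ⟨ih1, ih2⟩ := ih _ hrest (fun Q hQ => hinv Q (List.mem_cons_of_mem _ hQ)) hnext t
    constructor
    · show siftOK T (P :: Ps) (app (u r r.2 * t.1) P.1.base :: Ps.map _) = true
      rw [hx, siftOK, hrank r r.2, Bool.and_eq_true, Bool.and_eq_true]
      refine ⟨Nat.ble_eq_true_of_le r.2, Nat.beq_refl _, ?_⟩
      rw [List.map_map]
      rw [List.map_congr_left (g := fun Q : SLevel => app t.1 Q.1.base)]
      · exact ih1
      intro Q hQ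
      show back T P P.1.size r (app (u r r.2 * t.1) Q.1.base) = app t.1 Q.1.base
      have hlt : Q.1.base < N := by
        by_contra hge
        -- every base point of a chain with a nonempty orbit is a point
        have hQs : Q.1.size = 0 ∨ Q.1.base < N := by
          clear * - hrest hQ
          revert hrest
          generalize (P.1.base :: prev) = pr
          induction Ps generalizing pr with
          | nil => exact absurd hQ List.not_mem_nil
          | cons A As iha =>
            rintro ⟨-, hokA, hr⟩
            rcases List.mem_cons.1 hQ with rfl | hQ'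
            · rcases Nat.eq_zero_or_pos Q.1.size with h | h
              · exact Or.inl h
              · right
                have h0 := hokA 0 h
                simp only [Level.ok, Bool.and_eq_true] at h0
                have := h0.2.2
                rw [show Nat.beq 0 0 = true from rfl, cond_true] at this
                rw [← Nat.eq_of_beq_eq_true this]
                exact Nat.le_of_ble_eq_true h0.1
            · exact iha hQ' _ hr
        rcases hQs with h0 | h0
        · have hz : chainProd (Ps.map Prod.fst) = 0 := by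
            clear * - hQ h0
            induction Ps with
            | nil => exact absurd hQ List.not_mem_nil
            | cons A As iha =>
              show A.1.size * chainProd (As.map Prod.fst) = 0
              rcases List.mem_cons.1 hQ with rfl | hQ'
              · rw [h0, Nat.zero_mul]
              · rw [iha hQ', Nat.mul_zero]
          have : Nonempty (Stab R (P.1.base :: prev)) := ⟨t⟩
          have := Nat.card_pos (α := Stab R (P.1.base :: prev))
          omega
        · exact hge h0
      rw [app_mul _ _ hlt, app, dif_pos (app_lt _ hlt)]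
      have := hui r r.2 (u r r.2 ⟨app t.1 Q.1.base, app_lt _ hlt⟩)
      rw [← Equiv.Perm.mul_apply, inv_mul_cancel, Equiv.Perm.one_apply] at this
      exact this.symm
    · intro hfix
      have h0 := hfix P List.mem_cons_self
      have hb0 : app (u r r.2 * t.1) P.1.base = P.1.base := h0
      rw [hx] at hb0
      have hr0 : (r : ℕ) = 0 := by
        have h' := hok 0 hs
        simp only [Level.ok, Bool.and_eq_true] at h'
        have h22 := h'.2.2
        rw [show Nat.beq 0 0 = true from rfl, cond_true] at h22
        rw [← hrank r r.2, hb0, ← Nat.eq_of_beq_eq_true h22, hrank 0 hs]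
      have hu1 : u r r.2 = 1 := by
        refine inv_eq_one.1 (Equiv.ext fun i => Fin.ext ?_)
        rw [hui, hr0]
        show back T P P.1.size 0 (i : ℕ) = _
        cases P.1.size <;> rfl
      have ht : t.1 = 1 := ih2 fun Q hQ => by
        have := hfix Q (List.mem_cons_of_mem _ hQ)
        have hval : (F (r, t)).1 = t.1 := by
          show u r r.2 * t.1 = t.1
          rw [hu1, one_mul]
        rwa [hval] at this
      show u r r.2 * t.1 = 1
      rw [hu1, ht, one_mul]

end Cfsg.Agent.PermAut
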